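import Cfsg.Agent.WittExt.MathieuData

/-!
The stages of the Mathieu groups of degrees twelve and eleven.
-/

set_option autoImplicit false

namespace CfsgLib.WittExt.Mathieu

open Equiv

theorem mem_of_listed {S : Set P} {L : List (List ℕ)} (h1 : enc 1 ∈ L)
    (hS : ∀ g ∈ S, ∀ l ∈ L, comp l (enc g) ∈ L) {y : P} (hy : y ∈ Subgroup.closure S) : enc y ∈ L := by
  have hy' : y ∈ Submonoid.closure S := by rwa [← Subgroup.closure_toSubmonoid_of_finite]
  induction hy' using Submonoid.closure_induction_right with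
  | one => exact h1
  | mul_right u hu s hs ih =>
    rw [enc_mul]
    exact hS s hs _ (ih (by rwa [← Subgroup.closure_toSubmonoid_of_finite] at hu))

theorem list_mem {S : Set P} {L : List P} {w : P} (h : w ∈ L) (hL : ∀ e ∈ L, e ∈ Subgroup.closure S) :
    w ∈ Subgroup.closure S := hL w h

theorem closed₀ : ∀ g ∈ S₀, ∀ l ∈ L₀, comp l (enc g) ∈ L₀ := by
  simp only [S₀, Set.mem_insert_iff, Set.mem_singleton_iff, forall_eq_or_imp, forall_eq]
  decide +kernel

theorem closed₁ : ∀ g ∈ S₁, ∀ l ∈ L₁, comp l (enc g) ∈ L₁ := by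
  simp only [S₁, Set.mem_insert_iff, Set.mem_singleton_iff, forall_eq_or_imp, forall_eq]
  decide +kernel

theorem E₀_mem : ∀ e ∈ E₀, e ∈ Subgroup.closure S₀ := by
  simp only [E₀, List.forall_mem_cons, List.not_mem_nil, false_implies, implies_true, and_true]
  refine ⟨one_mem _, ?_⟩
  repeat' constructor
  all_goals
    repeat' with_reducible apply mul_mem
  all_goals
    exact Subgroup.subset_closure (by simp [S₀])

theorem R₁_mem : ∀ e ∈ R₁, e ∈ Subgroup.closure S₁ := by
  simp only [R₁, List.forall_mem_cons, List.not_mem_nil, false_implies, implies_true, and_true]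
  refine ⟨one_mem _, ?_⟩
  repeat' constructor
  all_goals
    repeat' with_reducible apply mul_mem
  all_goals
    exact Subgroup.subset_closure (by simp [S₁])

theorem S₀_le : Subgroup.closure S₀ ≤ Subgroup.closure S₁ := by
  refine Subgroup.closure_mono ?_
  simp [S₀, S₁, Set.insert_subset_iff]

theorem stab_four : ∀ l ∈ L₀, l.getD 4 0 = 4 → l = enc 1 := by decide +kernel

theorem stab_three : ∀ l ∈ L₁, l.getD 3 0 = 3 → ∃ e ∈ E₀, enc e = l := by decide +kernel

theorem reach₀ : ∀ j : Fin 12, 4 ≤ (j : ℕ) → ∃ e ∈ E₀, e 4 = j := by decide +kernel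

theorem reach₁ : ∀ j : Fin 12, 3 ≤ (j : ℕ) → ∃ e ∈ R₁, e 3 = j := by decide +kernel

theorem image₀ : ∀ l ∈ L₀, 4 ≤ l.getD 4 0 := by decide +kernel

theorem image₁ : ∀ l ∈ L₁, 3 ≤ l.getD 3 0 := by decide +kernel

theorem enc_getD (y : P) (i : Fin 12) : (enc y).getD i 0 = (y i : ℕ) := by
  simp [enc, List.getD_eq_getElem?_getD]

/-- The points from `k` on. -/
def above (k : ℕ) : Finset (Fin 12) := Finset.univ.filter fun j => k ≤ (j : ℕ)

theorem stage₀ : Stage (Subgroup.closure S₀) ⊥ 4 (above 4) := by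
  refine ⟨bot_le, fun h hh => by rw [Subgroup.mem_bot.1 hh]; rfl, fun g hg h4 => ?_, fun g hg => ?_, fun j hj => ?_⟩
  · rw [Subgroup.mem_bot]
    exact enc_inj (stab_four _ (mem_of_listed (by decide +kernel) closed₀ hg) (by rw [show (4 : ℕ) = ((4 : Fin 12) : ℕ) from rfl, enc_getD, h4]))
  · have := image₀ _ (mem_of_listed (by decide +kernel) closed₀ hg)
    rw [show (4 : ℕ) = ((4 : Fin 12) : ℕ) from rfl, enc_getD] at this
    simpa [above] using this
  · obtain ⟨e, he, hej⟩ := reach₀ j (by simpa [above] using hj)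
    exact ⟨e, E₀_mem e he, hej⟩

theorem stage₁ : Stage (Subgroup.closure S₁) (Subgroup.closure S₀) 3 (above 3) := by
  refine ⟨S₀_le, fun h hh => ?_, fun g hg h3 => ?_, fun g hg => ?_, fun j hj => ?_⟩
  · induction hh using Subgroup.closure_induction with
    | mem s hs =>
      simp only [S₀, Set.mem_insert_iff, Set.mem_singleton_iff] at hs
      rcases hs with rfl | rfl | rfl <;> decide +kernel
    | one => rfl
    | mul u v _ _ hu hv => rw [Equiv.Perm.mul_apply, hv, hu]
    | inv u _ hu => rw [Equiv.Perm.inv_eq_iff_eq, hu]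
  · obtain ⟨e, he, hel⟩ := stab_three _ (mem_of_listed (by decide +kernel) closed₁ hg)
      (by rw [show (3 : ℕ) = ((3 : Fin 12) : ℕ) from rfl, enc_getD, h3])
    exact enc_inj hel ▸ E₀_mem e he
  · have := image₁ _ (mem_of_listed (by decide +kernel) closed₁ hg)
    rw [show (3 : ℕ) = ((3 : Fin 12) : ℕ) from rfl, enc_getD] at this
    simpa [above] using this
  · obtain ⟨e, he, hej⟩ := reach₁ j (by simpa [above] using hj)
    exact ⟨e, R₁_mem e he, hej⟩

theorem trans_of_stage {G H : Subgroup P} {p : Fin 12} {O : Finset (Fin 12)} (h : Stage G H p O) (i : Fin 12)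
    (hi : i ∈ O) : ∀ j ∈ O, ∃ k ∈ G, k i = j := fun j hj => by
  obtain ⟨a, ha, hai⟩ := h.reach i hi
  obtain ⟨b, hb, hbj⟩ := h.reach j hj
  exact ⟨b * a⁻¹, mul_mem hb (inv_mem ha), by rw [Equiv.Perm.mul_apply, ← hai, Equiv.Perm.coe_inv, Equiv.symm_apply_apply, hbj]⟩

theorem fixes₁ : ∀ s ∈ S₁, ∀ j : Fin 12, (j : ℕ) < 3 → s j = j := by
  simp only [S₁, Set.mem_insert_iff, Set.mem_singleton_iff, forall_eq_or_imp, forall_eq]
  decide +kernel

theorem fixes₂ : ∀ s ∈ S₂, ∀ j : Fin 12, j = 1 ∨ j = 2 → s j = j := by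
  simp only [S₂, S₁, Set.mem_insert_iff, Set.mem_singleton_iff, forall_eq_or_imp, forall_eq]
  decide +kernel

theorem fixes₃ : ∀ s ∈ S₃, ∀ j : Fin 12, j = 2 → s j = j := by
  simp only [S₃, S₂, S₁, Set.mem_insert_iff, Set.mem_singleton_iff, forall_eq_or_imp, forall_eq]
  decide +kernel

theorem norm₀ : gs ∈ S₁ ∧ ∀ t ∈ S₀, ∃ e ∈ E₀, ga * t * ga = e := by
  refine ⟨by simp [S₁], ?_⟩
  simp only [S₀, Set.mem_insert_iff, Set.mem_singleton_iff, forall_eq_or_imp, forall_eq]
  decide +kernel

/-- The points of a stage after removing one base point. -/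
theorem above_three_ne {j : Fin 12} (hj : j ∈ above 3) (h : j ≠ 3) : j ∈ above 4 := by
  simp only [above, Finset.mem_filter, Finset.mem_univ, true_and] at hj ⊢
  rcases Nat.lt_or_ge (j : ℕ) 4 with h' | h'
  · exact absurd (Fin.ext (show (j : ℕ) = 3 by omega)) h
  · exact h'

/-- The orbit of the new point. -/
def O₂ : Finset (Fin 12) := Finset.univ.filter fun j => j ≠ 1 ∧ j ≠ 2
def O₃ : Finset (Fin 12) := Finset.univ.filter fun j => j ≠ 2

theorem R₂_mem : ∀ e ∈ R₂, e ∈ Subgroup.closure S₂ := by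
  simp only [R₂, List.forall_mem_cons, List.not_mem_nil, false_implies, implies_true, and_true]
  refine ⟨one_mem _, ?_⟩
  repeat' constructor
  all_goals
    repeat' with_reducible apply mul_mem
  all_goals
    exact Subgroup.subset_closure (by simp [S₂, S₁])

theorem R₃_mem : ∀ e ∈ R₃, e ∈ Subgroup.closure S₃ := by
  simp only [R₃, List.forall_mem_cons, List.not_mem_nil, false_implies, implies_true, and_true]
  repeat' constructor
  all_goals
    first
    | with_reducible exact one_mem _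
    | (repeat' with_reducible apply mul_mem) <;> exact Subgroup.subset_closure (by simp [S₃, S₂, S₁])

theorem R₄_mem : ∀ e ∈ R₄, e ∈ Subgroup.closure S₄ := by
  simp only [R₄, List.forall_mem_cons, List.not_mem_nil, false_implies, implies_true, and_true]
  repeat' constructor
  all_goals
    first
    | with_reducible exact one_mem _
    | (repeat' with_reducible apply mul_mem) <;> exact Subgroup.subset_closure (by simp [S₄, S₃, S₂, S₁])

theorem stage₂ : Stage (Subgroup.closure S₂) (Subgroup.closure S₁) 0 O₂ := by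
  have hf : ∀ s ∈ S₁, s 0 = (0 : Fin 12) := fun s hs => fixes₁ s hs 0 (by decide)
  refine stage_of_witt (F := {1, 2}) hf ?_ (fun s hs j hj => fixes₂ s hs j (by simpa using hj))
    (fun j hj => by simpa [O₂, not_or] using hj) (by decide) ?_
  · refine witt (T := S₀) (g := gs) (a := gs) (b := gu * gt * gu) stage₁ rfl hf (by decide +kernel) (by decide +kernel)
      (by decide) (fun t ht => ?_) (Subgroup.subset_closure norm₀.1) (by decide +kernel) (fun j hj hne => ?_)
      (Subgroup.subset_closure norm₀.1) ?_ (by decide +kernel)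
    · obtain ⟨e, he, h⟩ := norm₀.2 t ht
      rw [h]
      exact S₀_le (E₀_mem e he)
    · exact trans_of_stage stage₀ (gs 3) (above_three_ne (stage₁.mem gs (Subgroup.subset_closure norm₀.1)) (by decide +kernel)) j (above_three_ne hj hne)
    · exact mul_mem (mul_mem (Subgroup.subset_closure (by simp [S₁])) (Subgroup.subset_closure (by simp [S₁])))
        (Subgroup.subset_closure (by simp [S₁]))
  · intro j hj
    obtain ⟨e, he, hej⟩ := (by decide +kernel : ∀ j ∈ O₂, ∃ e ∈ R₂, e 0 = j) j hj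
    exact ⟨e, R₂_mem e he, hej⟩

theorem stage₃ : Stage (Subgroup.closure S₃) (Subgroup.closure S₂) 1 O₃ := by
  have hf : ∀ s ∈ S₂, s 1 = (1 : Fin 12) := fun s hs => fixes₂ s hs 1 (Or.inl rfl)
  refine stage_of_witt (F := {2}) hf ?_ (fun s hs j hj => fixes₃ s hs j (by simpa using hj))
    (fun j hj => by simpa [O₃] using hj) (by decide) ?_
  · refine witt (T := S₁) (g := ga) (a := ga) (b := ga) stage₂ rfl hf (by decide +kernel) (by decide +kernel)
      (by decide) (fun t ht => ?_) (Subgroup.subset_closure (Set.mem_insert _ _)) (by decide +kernel) (fun j hj hne => ?_)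
      (Subgroup.subset_closure (Set.mem_insert _ _)) (Subgroup.subset_closure (Set.mem_insert _ _)) (by decide +kernel)
    · have h : ∀ t ∈ S₁, gb * t * gb ∈ ([gs, gt * gt, gv * gw, gw, gv] : List P) := by
        simp only [S₁, Set.mem_insert_iff, Set.mem_singleton_iff, forall_eq_or_imp, forall_eq]
        decide +kernel
      refine list_mem (h t ht) ?_
      simp only [List.forall_mem_cons, List.not_mem_nil, false_implies, implies_true, and_true]
      repeat' constructor
      all_goals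
        repeat' with_reducible apply mul_mem
      all_goals
        exact Subgroup.subset_closure (by simp [S₂, S₁])
    · have h3 : j ∈ above 3 := by
        revert hne hj
        revert j
        decide +kernel
      exact trans_of_stage stage₁ (ga 0) (by decide +kernel) j h3
  · intro j hj
    obtain ⟨e, he, hej⟩ := (by decide +kernel : ∀ j ∈ O₃, ∃ e ∈ R₃, e 1 = j) j hj
    exact ⟨e, R₃_mem e he, hej⟩

theorem stage₄ : Stage (Subgroup.closure S₄) (Subgroup.closure S₃) 2 Finset.univ := by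
  have hf : ∀ s ∈ S₃, s 2 = (2 : Fin 12) := fun s hs => fixes₃ s hs 2 rfl
  refine stage_of_witt (F := ∅) hf ?_ (fun s _ j hj => absurd hj (Finset.notMem_empty j))
    (fun j _ => Finset.mem_univ j) (Finset.notMem_empty _) ?_
  · refine witt (T := S₂) (g := gb) (a := gb) (b := gb) stage₃ rfl hf (by decide +kernel) (by decide +kernel)
      (by decide) (fun t ht => ?_) (Subgroup.subset_closure (Set.mem_insert _ _)) (by decide +kernel) (fun j hj hne => ?_)
      (Subgroup.subset_closure (Set.mem_insert _ _)) (Subgroup.subset_closure (Set.mem_insert _ _)) (by decide +kernel)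
    · have h : ∀ t ∈ S₂, gc * t * gc ∈ ([gs, gs * gs * gt * gt, gw * gu, gv * gw, gu * gv, ga] : List P) := by
        simp only [S₂, S₁, Set.mem_insert_iff, Set.mem_singleton_iff, forall_eq_or_imp, forall_eq]
        decide +kernel
      refine list_mem (h t ht) ?_
      simp only [List.forall_mem_cons, List.not_mem_nil, false_implies, implies_true, and_true]
      repeat' constructor
      all_goals
        repeat' with_reducible apply mul_mem
      all_goals
        exact Subgroup.subset_closure (by simp [S₃, S₂, S₁])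
    · have h3 : j ∈ O₂ := by
        revert hne hj
        revert j
        decide +kernel
      exact trans_of_stage stage₂ (gb 1) (by decide +kernel) j h3
  · intro j hj
    obtain ⟨e, he, hej⟩ := (by decide +kernel : ∀ j : Fin 12, ∃ e ∈ R₄, e 2 = j) j
    exact ⟨e, R₄_mem e he, hej⟩

theorem card₃ : Nat.card (Subgroup.closure S₃) = 7920 ∧ Nat.card (Subgroup.closure S₄) = 95040 := by
  have h0 : Nat.card (Subgroup.closure S₀) = 8 := by
    rw [stage₀.card, Subgroup.card_bot]; decide +kernel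
  have h1 : Nat.card (Subgroup.closure S₁) = 72 := by
    rw [stage₁.card, h0, show (above 3).card = 9 by decide +kernel]
  have h2 : Nat.card (Subgroup.closure S₂) = 720 := by
    rw [stage₂.card, h1, show O₂.card = 10 by decide +kernel]
  have h3 : Nat.card (Subgroup.closure S₃) = 7920 := by
    rw [stage₃.card, h2, show O₃.card = 11 by decide +kernel]
  exact ⟨h3, by rw [stage₄.card, h3, Finset.card_univ, Fintype.card_fin]⟩

/-- Five distinct points can be reached from the base. -/
theorem reach_base (y : Fin 5 → Fin 12) (hy : Function.Injective y) :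
    ∃ g ∈ Subgroup.closure S₄, g 2 = y 0 ∧ g 1 = y 1 ∧ g 0 = y 2 ∧ g 3 = y 3 ∧ g 4 = y 4 := by
  have hne : ∀ i j : Fin 5, i ≠ j → y i ≠ y j := fun i j h e => h (hy e)
  obtain ⟨a, ha, ha'⟩ := stage₄.reach (y 0) (Finset.mem_univ _)
  have m1 : a⁻¹ (y 1) ∈ O₃ := by
    simp only [O₃, Finset.mem_filter, Finset.mem_univ, true_and]
    intro e; exact hne 1 0 (by decide) (by rw [Equiv.Perm.inv_eq_iff_eq] at e; rw [e, ha'])
  obtain ⟨b, hb, hb'⟩ := stage₃.reach _ m1
  have hb2 : (a * b) 2 = y 0 := by rw [Equiv.Perm.mul_apply, stage₄.fix b hb, ha']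
  have hb1 : (a * b) 1 = y 1 := by rw [Equiv.Perm.mul_apply, hb', Equiv.Perm.coe_inv, Equiv.apply_symm_apply]
  have m2 : (a * b)⁻¹ (y 2) ∈ O₂ := by
    simp only [O₂, Finset.mem_filter, Finset.mem_univ, true_and]
    refine ⟨fun e => hne 2 1 (by decide) ?_, fun e => hne 2 0 (by decide) ?_⟩ <;>
      rw [Equiv.Perm.inv_eq_iff_eq] at e
    · rw [e, hb1]
    · rw [e, hb2]
  obtain ⟨c, hc, hc'⟩ := stage₂.reach _ m2
  have hc2 : (a * b * c) 2 = y 0 := by
    rw [Equiv.Perm.mul_apply, stage₄.fix c (stage₃.le hc), hb2]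
  have hc1 : (a * b * c) 1 = y 1 := by rw [Equiv.Perm.mul_apply, stage₃.fix c hc, hb1]
  have hc0 : (a * b * c) 0 = y 2 := by
    rw [Equiv.Perm.mul_apply, hc', Equiv.Perm.coe_inv, Equiv.apply_symm_apply]
  have m3 : (a * b * c)⁻¹ (y 3) ∈ above 3 := by
    refine (by decide +kernel : ∀ j : Fin 12, j ≠ 0 → j ≠ 1 → j ≠ 2 → j ∈ above 3) _
      (fun e => hne 3 2 (by decide) ?_) (fun e => hne 3 1 (by decide) ?_) (fun e => hne 3 0 (by decide) ?_) <;>
      rw [Equiv.Perm.inv_eq_iff_eq] at e
    · rw [e, hc0]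
    · rw [e, hc1]
    · rw [e, hc2]
  obtain ⟨d, hd, hd'⟩ := stage₁.reach _ m3
  have hd2 : (a * b * c * d) 2 = y 0 := by
    rw [Equiv.Perm.mul_apply, stage₄.fix d (stage₃.le (stage₂.le hd)), hc2]
  have hd1 : (a * b * c * d) 1 = y 1 := by rw [Equiv.Perm.mul_apply, stage₃.fix d (stage₂.le hd), hc1]
  have hd0 : (a * b * c * d) 0 = y 2 := by rw [Equiv.Perm.mul_apply, stage₂.fix d hd, hc0]
  have hd3 : (a * b * c * d) 3 = y 3 := by
    rw [Equiv.Perm.mul_apply, hd', Equiv.Perm.coe_inv, Equiv.apply_symm_apply]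
  have m4 : (a * b * c * d)⁻¹ (y 4) ∈ above 4 := by
    refine (by decide +kernel : ∀ j : Fin 12, j ≠ 0 → j ≠ 1 → j ≠ 2 → j ≠ 3 → j ∈ above 4) _
      (fun e => hne 4 2 (by decide) ?_) (fun e => hne 4 1 (by decide) ?_) (fun e => hne 4 0 (by decide) ?_)
      (fun e => hne 4 3 (by decide) ?_) <;> rw [Equiv.Perm.inv_eq_iff_eq] at e
    · rw [e, hd0]
    · rw [e, hd1]
    · rw [e, hd2]
    · rw [e, hd3]
  obtain ⟨f, hf, hf'⟩ := stage₀.reach _ m4
  refine ⟨a * b * c * d * f, mul_mem (mul_mem (mul_mem (mul_mem ha (stage₄.le hb)) (stage₄.le (stage₃.le hc)))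
    (stage₄.le (stage₃.le (stage₂.le hd)))) (stage₄.le (stage₃.le (stage₂.le (stage₁.le hf)))), ?_, ?_, ?_, ?_, ?_⟩
  · rw [Equiv.Perm.mul_apply, stage₄.fix f (stage₃.le (stage₂.le (stage₁.le hf))), hd2]
  · rw [Equiv.Perm.mul_apply, stage₃.fix f (stage₂.le (stage₁.le hf)), hd1]
  · rw [Equiv.Perm.mul_apply, stage₂.fix f (stage₁.le hf), hd0]
  · rw [Equiv.Perm.mul_apply, stage₁.fix f hf, hd3]
  · rw [Equiv.Perm.mul_apply, hf', Equiv.Perm.coe_inv, Equiv.apply_symm_apply]

theorem base_free {h : P} (hh : h ∈ Subgroup.closure S₄) (h2 : h 2 = 2) (h1 : h 1 = 1) (h0 : h 0 = 0)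
    (h3 : h 3 = 3) (h4 : h 4 = 4) : h = 1 :=
  Subgroup.mem_bot.1 (stage₀.stab _ (stage₁.stab _ (stage₂.stab _ (stage₃.stab _ (stage₄.stab _ hh h2) h1) h0) h3) h4)

end CfsgLib.WittExt.Mathieu
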