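import Mathlib

/-!
Transitive extensions of permutation groups (Witt's lemma).
-/

set_option autoImplicit false

namespace CfsgLib.WittExt

variable {α : Type*}

/-- A base stage: the points `O` are the orbit of `p` and `H` is the stabiliser. -/
structure Stage (G H : Subgroup (Equiv.Perm α)) (p : α) (O : Finset α) : Prop where
  le : H ≤ G
  fix : ∀ h ∈ H, h p = p
  stab : ∀ g ∈ G, g p = p → g ∈ H
  mem : ∀ g ∈ G, g p ∈ O
  reach : ∀ j ∈ O, ∃ g ∈ G, g p = j

theorem Stage.card {G H : Subgroup (Equiv.Perm α)} {p : α} {O : Finset α} (h : Stage G H p O) :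
    Nat.card G = O.card * Nat.card H := by
  classical
  choose r hr hrp using h.reach
  let f : G → {j // j ∈ O} × H := fun g => (⟨g.1 p, h.mem g.1 g.2⟩, ⟨(r _ (h.mem g.1 g.2))⁻¹ * g.1,
    h.stab _ (mul_mem (inv_mem (hr _ _)) g.2) (by
      rw [Equiv.Perm.mul_apply, Equiv.Perm.inv_eq_iff_eq, hrp])⟩)
  have hf : Function.Bijective f := by
    refine ⟨fun a b hab => ?_, fun ⟨j, q⟩ => ⟨⟨r j.1 j.2 * q.1, mul_mem (hr _ _) (h.le q.2)⟩, ?_⟩⟩
    · simp only [f, Prod.mk.injEq, Subtype.mk.injEq] at hab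
      obtain ⟨h1, h2⟩ := hab
      simp only [h1] at h2
      exact Subtype.ext (mul_left_cancel h2)
    · have e : (r j.1 j.2 * q.1 : Equiv.Perm α) p = j.1 := by
        rw [Equiv.Perm.mul_apply, h.fix _ q.2, hrp]
      simp [f, e]
  rw [Nat.card_eq_of_bijective f hf, Nat.card_prod, Nat.card_eq_fintype_card, Fintype.card_coe]

/-- Witt's lemma. -/
theorem witt {S T : Set (Equiv.Perm α)} {K : Subgroup (Equiv.Perm α)} {p q : α} {O : Finset α}
    {x g a b : Equiv.Perm α} (hst : Stage (Subgroup.closure S) K q O)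
    (hK : K = Subgroup.closure T) (hHp : ∀ s ∈ S, s p = p) (hx2 : x * x = 1) (hxp : x p = q) (hpq : q ≠ p)
    (hxT : ∀ t ∈ T, x * t * x ∈ Subgroup.closure S) (hg : g ∈ Subgroup.closure S) (hgq : g q ≠ q)
    (htr : ∀ j ∈ O, j ≠ q → ∃ k ∈ K, k (g q) = j)
    (ha : a ∈ Subgroup.closure S) (hb : b ∈ Subgroup.closure S) (hab : x * g * x = a * x * b) :
    ∀ y ∈ Subgroup.closure (insert x S), y p = p → y ∈ Subgroup.closure S := by
  set H := Subgroup.closure S
  have hfix : ∀ h ∈ H, h p = p := by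
    intro h hh
    induction hh using Subgroup.closure_induction with
    | mem s hs => exact hHp s hs
    | one => rfl
    | mul u v _ _ hu hv => rw [Equiv.Perm.mul_apply, hv, hu]
    | inv u _ hu => rw [Equiv.Perm.inv_eq_iff_eq, hu]
  have hxi : x⁻¹ = x := inv_eq_of_mul_eq_one_right hx2
  have hxK : ∀ k ∈ K, x * k * x ∈ H := by
    have : K ≤ H.comap (MulAut.conj x).toMonoidHom := by
      rw [hK, Subgroup.closure_le]
      intro t ht
      show x * t * x⁻¹ ∈ H
      rw [hxi]; exact hxT t ht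
    intro k hk
    have h := this hk
    change x * k * x⁻¹ ∈ H at h
    rwa [hxi] at h
  have hkey : ∀ h ∈ H, x * h * x ∈ H ∨ ∃ c ∈ H, ∃ d ∈ H, x * h * x = c * x * d := by
    intro h hh
    by_cases hq : h q = q
    · exact Or.inl (hxK h (hst.stab h hh hq))
    obtain ⟨k, hk, hkj⟩ := htr _ (hst.mem h hh) hq
    have hk' : g⁻¹ * k⁻¹ * h ∈ K := hst.stab _ (mul_mem (mul_mem (inv_mem hg) (inv_mem (hst.le hk))) hh) (by
      rw [Equiv.Perm.mul_apply, Equiv.Perm.mul_apply, ← hkj, Equiv.Perm.coe_inv, Equiv.Perm.coe_inv,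
        Equiv.symm_apply_apply, Equiv.symm_apply_apply])
    refine Or.inr ⟨x * k * x * a, mul_mem (hxK k hk) ha, b * (x * (g⁻¹ * k⁻¹ * h) * x), mul_mem hb (hxK _ hk'), ?_⟩
    calc x * h * x = (x * k * (x * x) * g * (x * x)) * (g⁻¹ * k⁻¹ * h) * x := by
          rw [hx2, mul_one, mul_one]; group
      _ = (x * k * x) * (x * g * x) * (x * (g⁻¹ * k⁻¹ * h) * x) := by group
      _ = _ := by rw [hab]; group
  intro y hy hyp
  have hmem : y ∈ H ∨ ∃ c ∈ H, ∃ d ∈ H, y = c * x * d := by
    clear hyp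
    induction hy using Subgroup.closure_induction with
    | mem s hs =>
      rcases hs with rfl | hs
      · exact Or.inr ⟨1, one_mem _, 1, one_mem _, by group⟩
      · exact Or.inl (Subgroup.subset_closure hs)
    | one => exact Or.inl (one_mem _)
    | mul u v _ _ hu hv =>
      rcases hu with hu | ⟨c, hc, d, hd, rfl⟩ <;> rcases hv with hv | ⟨c', hc', d', hd', rfl⟩
      · exact Or.inl (mul_mem hu hv)
      · exact Or.inr ⟨u * c', mul_mem hu hc', d', hd', by group⟩
      · exact Or.inr ⟨c, hc, d * v, mul_mem hd hv, by group⟩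
      · rcases hkey (d * c') (mul_mem hd hc') with h | ⟨e, he, f, hf, h⟩
        · refine Or.inl ?_
          rw [show c * x * d * (c' * x * d') = c * (x * (d * c') * x) * d' by group]
          exact mul_mem (mul_mem hc h) hd'
        · refine Or.inr ⟨c * e, mul_mem hc he, f * d', mul_mem hf hd', ?_⟩
          rw [show c * x * d * (c' * x * d') = c * (x * (d * c') * x) * d' by group, h]
          group
    | inv u _ hu =>
      rcases hu with hu | ⟨c, hc, d, hd, rfl⟩
      · exact Or.inl (inv_mem hu)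
      · exact Or.inr ⟨d⁻¹, inv_mem hd, c⁻¹, inv_mem hc, by rw [mul_inv_rev, mul_inv_rev, hxi]; group⟩
  rcases hmem with h | ⟨c, hc, d, hd, rfl⟩
  · exact h
  · rw [Equiv.Perm.mul_apply, Equiv.Perm.mul_apply, hfix d hd, hxp] at hyp
    exact absurd (c.injective (hyp.trans (hfix c hc).symm)) hpq

/-- The extended stage. -/
theorem stage_of_witt {S : Set (Equiv.Perm α)} {x : Equiv.Perm α} {p : α} {O F : Finset α}
    (hHp : ∀ s ∈ S, s p = p)
    (hw : ∀ y ∈ Subgroup.closure (insert x S), y p = p → y ∈ Subgroup.closure S)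
    (hF : ∀ s ∈ insert x S, ∀ j ∈ F, s j = j) (hO : ∀ j, j ∉ F → j ∈ O) (hp : p ∉ F)
    (reach : ∀ j ∈ O, ∃ g ∈ Subgroup.closure (insert x S), g p = j) :
    Stage (Subgroup.closure (insert x S)) (Subgroup.closure S) p O := by
  refine ⟨Subgroup.closure_mono (Set.subset_insert _ _), fun h hh => ?_, hw, fun g hg => hO _ fun hgF => hp ?_, reach⟩
  · induction hh using Subgroup.closure_induction with
    | mem s hs => exact hHp s hs
    | one => rfl
    | mul u v _ _ hu hv => rw [Equiv.Perm.mul_apply, hv, hu]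
    | inv u _ hu => rw [Equiv.Perm.inv_eq_iff_eq, hu]
  · have : ∀ y ∈ Subgroup.closure (insert x S), ∀ j ∈ F, y j = j := by
      intro y hy
      induction hy using Subgroup.closure_induction with
      | mem s hs => exact hF s hs
      | one => intros; rfl
      | mul u v _ _ hu hv => intro j hj; rw [Equiv.Perm.mul_apply, hv j hj, hu j hj]
      | inv u _ hu => intro j hj; rw [Equiv.Perm.inv_eq_iff_eq, hu j hj]
    rwa [g.injective (this g hg (g p) hgF)] at hgF

end CfsgLib.WittExt
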