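import Cfsg.Agent.WittExt.Basic

/-!
The Mathieu groups of degrees twelve and eleven from explicit generators.
-/

set_option autoImplicit false

namespace CfsgLib.WittExt.Mathieu

open Equiv

abbrev P := Equiv.Perm (Fin 12)

def gs : P := swap (3 : Fin 12) 5 * swap (3 : Fin 12) 4 * swap (6 : Fin 12) 8 * swap (6 : Fin 12) 7 * swap (9 : Fin 12) 11 * swap (9 : Fin 12) 10

def gt : P := swap (3 : Fin 12) 9 * swap (3 : Fin 12) 6 * swap (4 : Fin 12) 10 * swap (4 : Fin 12) 7 * swap (5 : Fin 12) 11 * swap (5 : Fin 12) 8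

def gu : P := swap (4 : Fin 12) 9 * swap (4 : Fin 12) 5 * swap (4 : Fin 12) 6 * swap (7 : Fin 12) 10 * swap (7 : Fin 12) 11 * swap (7 : Fin 12) 8

def gv : P := swap (4 : Fin 12) 11 * swap (4 : Fin 12) 5 * swap (4 : Fin 12) 7 * swap (6 : Fin 12) 8 * swap (6 : Fin 12) 9 * swap (6 : Fin 12) 10

def gw : P := swap (4 : Fin 12) 8 * swap (4 : Fin 12) 5 * swap (4 : Fin 12) 10 * swap (6 : Fin 12) 7 * swap (6 : Fin 12) 9 * swap (6 : Fin 12) 11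

def ga : P := swap (0 : Fin 12) 3 * swap (6 : Fin 12) 7 * swap (8 : Fin 12) 10 * swap (9 : Fin 12) 11

def gb : P := swap (0 : Fin 12) 1 * swap (6 : Fin 12) 9 * swap (7 : Fin 12) 10 * swap (8 : Fin 12) 11

def gc : P := swap (1 : Fin 12) 2 * swap (6 : Fin 12) 11 * swap (7 : Fin 12) 9 * swap (8 : Fin 12) 10

def S₀ : Set P := {gu, gv, gw}

def S₁ : Set P := {gs, gt, gu, gv, gw}

def S₂ : Set P := insert ga S₁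
def S₃ : Set P := insert gb S₂
def S₄ : Set P := insert gc S₃

/-- The images of the points. -/
def enc (y : P) : List ℕ := (List.finRange 12).map fun i => (y i : ℕ)

/-- Composition on lists of images. -/
def comp (l m : List ℕ) : List ℕ := m.map fun x => l.getD x 0

theorem enc_mul (y z : P) : enc (y * z) = comp (enc y) (enc z) := by
  simp only [enc, comp, List.map_map]
  refine List.map_congr_left fun i _ => ?_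
  simp [List.getD_eq_getElem?_getD, List.getElem?_map, Fin.is_lt]

theorem enc_inj {y z : P} (h : enc y = enc z) : y = z := by
  refine Equiv.ext fun i => Fin.ext ?_
  exact List.map_inj_left.1 h i (List.mem_finRange i)

/-- The image lists of the group of order seventy-two. -/
def L₁ : List (List ℕ) := [
  [0, 1, 2, 3, 4, 5, 6, 7, 8, 9, 10, 11],
  [0, 1, 2, 4, 5, 3, 7, 8, 6, 10, 11, 9],
  [0, 1, 2, 6, 7, 8, 9, 10, 11, 3, 4, 5],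
  [0, 1, 2, 3, 6, 9, 5, 8, 11, 4, 7, 10],
  [0, 1, 2, 3, 7, 11, 10, 5, 6, 8, 9, 4],
  [0, 1, 2, 3, 10, 8, 11, 6, 4, 7, 5, 9],
  [0, 1, 2, 5, 3, 4, 8, 6, 7, 11, 9, 10],
  [0, 1, 2, 7, 8, 6, 10, 11, 9, 4, 5, 3],
  [0, 1, 2, 4, 7, 10, 3, 6, 9, 5, 8, 11],
  [0, 1, 2, 4, 8, 9, 11, 3, 7, 6, 10, 5],
  [0, 1, 2, 4, 11, 6, 9, 7, 5, 8, 3, 10],
  [0, 1, 2, 9, 10, 11, 3, 4, 5, 6, 7, 8],
  [0, 1, 2, 6, 9, 3, 8, 11, 5, 7, 10, 4],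
  [0, 1, 2, 6, 10, 5, 4, 8, 9, 11, 3, 7],
  [0, 1, 2, 6, 4, 11, 5, 9, 7, 10, 8, 3],
  [0, 1, 2, 5, 8, 11, 4, 7, 10, 3, 6, 9],
  [0, 1, 2, 3, 5, 4, 9, 11, 10, 6, 8, 7],
  [0, 1, 2, 3, 8, 10, 7, 9, 5, 11, 4, 6],
  [0, 1, 2, 7, 11, 3, 5, 6, 10, 9, 4, 8],
  [0, 1, 2, 10, 5, 6, 8, 9, 4, 3, 7, 11],
  [0, 1, 2, 3, 9, 6, 4, 10, 7, 5, 11, 8],
  [0, 1, 2, 10, 8, 3, 6, 4, 11, 5, 9, 7],
  [0, 1, 2, 11, 6, 4, 7, 5, 9, 3, 10, 8],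
  [0, 1, 2, 3, 11, 7, 8, 4, 9, 10, 6, 5],
  [0, 1, 2, 8, 6, 7, 11, 9, 10, 5, 3, 4],
  [0, 1, 2, 5, 6, 10, 9, 4, 8, 7, 11, 3],
  [0, 1, 2, 5, 9, 7, 10, 8, 3, 6, 4, 11],
  [0, 1, 2, 10, 11, 9, 4, 5, 3, 7, 8, 6],
  [0, 1, 2, 7, 10, 4, 6, 9, 3, 8, 11, 5],
  [0, 1, 2, 7, 5, 9, 3, 10, 8, 11, 6, 4],
  [0, 1, 2, 4, 3, 5, 10, 9, 11, 7, 6, 8],
  [0, 1, 2, 4, 6, 11, 8, 10, 3, 9, 5, 7],
  [0, 1, 2, 8, 9, 4, 3, 7, 11, 10, 5, 6],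
  [0, 1, 2, 11, 3, 7, 6, 10, 5, 4, 8, 9],
  [0, 1, 2, 4, 10, 7, 5, 11, 8, 3, 9, 6],
  [0, 1, 2, 9, 7, 5, 8, 3, 10, 4, 11, 6],
  [0, 1, 2, 4, 9, 8, 6, 5, 10, 11, 7, 3],
  [0, 1, 2, 9, 3, 6, 11, 5, 8, 10, 4, 7],
  [0, 1, 2, 9, 4, 8, 7, 11, 3, 5, 6, 10],
  [0, 1, 2, 8, 11, 5, 7, 10, 4, 6, 9, 3],
  [0, 1, 2, 6, 8, 7, 3, 5, 4, 9, 11, 10],
  [0, 1, 2, 6, 11, 4, 10, 3, 8, 5, 7, 9],
  [0, 1, 2, 6, 3, 9, 7, 4, 10, 8, 5, 11],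
  [0, 1, 2, 6, 5, 10, 11, 7, 3, 4, 9, 8],
  [0, 1, 2, 5, 4, 3, 11, 10, 9, 8, 7, 6],
  [0, 1, 2, 5, 7, 9, 6, 11, 4, 10, 3, 8],
  [0, 1, 2, 9, 11, 10, 6, 8, 7, 3, 5, 4],
  [0, 1, 2, 8, 10, 3, 9, 5, 7, 4, 6, 11],
  [0, 1, 2, 7, 9, 5, 11, 4, 6, 3, 8, 10],
  [0, 1, 2, 7, 6, 8, 4, 3, 5, 10, 9, 11],
  [0, 1, 2, 7, 4, 10, 8, 5, 11, 6, 3, 9],
  [0, 1, 2, 10, 9, 11, 7, 6, 8, 4, 3, 5],
  [0, 1, 2, 10, 7, 4, 11, 8, 5, 9, 6, 3],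
  [0, 1, 2, 9, 6, 3, 10, 7, 4, 11, 8, 5],
  [0, 1, 2, 8, 3, 10, 4, 11, 6, 9, 7, 5],
  [0, 1, 2, 10, 6, 5, 3, 11, 7, 8, 4, 9],
  [0, 1, 2, 10, 4, 7, 9, 3, 6, 11, 5, 8],
  [0, 1, 2, 11, 7, 3, 4, 9, 8, 6, 5, 10],
  [0, 1, 2, 11, 5, 8, 10, 4, 7, 9, 3, 6],
  [0, 1, 2, 11, 10, 9, 8, 7, 6, 5, 4, 3],
  [0, 1, 2, 8, 4, 9, 10, 6, 5, 3, 11, 7],
  [0, 1, 2, 11, 9, 10, 5, 3, 4, 8, 6, 7],
  [0, 1, 2, 5, 11, 8, 3, 9, 6, 4, 10, 7],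
  [0, 1, 2, 5, 10, 6, 7, 3, 11, 9, 8, 4],
  [0, 1, 2, 7, 3, 11, 9, 8, 4, 5, 10, 6],
  [0, 1, 2, 8, 7, 6, 5, 4, 3, 11, 10, 9],
  [0, 1, 2, 8, 5, 11, 6, 3, 9, 7, 4, 10],
  [0, 1, 2, 11, 8, 5, 9, 6, 3, 10, 7, 4],
  [0, 1, 2, 9, 8, 4, 5, 10, 6, 7, 3, 11],
  [0, 1, 2, 9, 5, 7, 4, 6, 11, 8, 10, 3],
  [0, 1, 2, 11, 4, 6, 3, 8, 10, 7, 9, 5],
  [0, 1, 2, 10, 3, 8, 5, 7, 9, 6, 11, 4]]

/-- The image lists of the quaternion group. -/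
def L₀ : List (List ℕ) := [[0, 1, 2, 3, 4, 5, 6, 7, 8, 9, 10, 11],
  [0, 1, 2, 3, 6, 9, 5, 8, 11, 4, 7, 10],
  [0, 1, 2, 3, 7, 11, 10, 5, 6, 8, 9, 4],
  [0, 1, 2, 3, 10, 8, 11, 6, 4, 7, 5, 9],
  [0, 1, 2, 3, 5, 4, 9, 11, 10, 6, 8, 7],
  [0, 1, 2, 3, 8, 10, 7, 9, 5, 11, 4, 6],
  [0, 1, 2, 3, 9, 6, 4, 10, 7, 5, 11, 8],
  [0, 1, 2, 3, 11, 7, 8, 4, 9, 10, 6, 5]]

/-- Elements of the quaternion group. -/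
def E₀ : List P := [1, gu, gv, gw, gu * gu, gu * gv, gv * gw, gw * gu]

/-- Representatives of the translations. -/
def R₁ : List P := [1, gs, gs * gs, gt, gs * gt, gs * gs * gt, gt * gt, gs * gt * gt, gs * gs * gt * gt]

/-- Representatives at the stage 2. -/
def R₂ : List P := [1, ga, gs * ga, gs * gs * ga, gt * ga, gs * gt * ga, gs * gs * gt * ga, gt * gt * ga, gv * gt * ga, gw * gt * ga]

/-- Representatives at the stage 3. -/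
def R₃ : List P := [gb, 1, ga * gb, gs * ga * gb, gs * gs * ga * gb, gt * ga * gb, gs * gt * ga * gb, gs * gs * gt * ga * gb, gt * gt * ga * gb, gv * gt * ga * gb, gw * gt * ga * gb]

/-- Representatives at the stage 4. -/
def R₄ : List P := [gb * gc, gc, 1, ga * gb * gc, gs * ga * gb * gc, gs * gs * ga * gb * gc, gt * ga * gb * gc, gs * gt * ga * gb * gc, gs * gs * gt * ga * gb * gc, gt * gt * ga * gb * gc, gv * gt * ga * gb * gc, gw * gt * ga * gb * gc]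

end CfsgLib.WittExt.Mathieu
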